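import Groth.Agent.Sga7.H753.BaseExt
import Groth.Agent.Sga7.H729.Dict
import Groth.Agent.Sga7.H730.StabOpen
import Groth.Agent.AbVar.K520.TateFin
import Groth.Agent.AlgGrp.K406.SepPts

/-!
# Division points of abelian varieties over separably closed fields

`K644.DivPts.exists_pow_eq`: the points of an abelian variety with values in a separably closed field are divisible by
`n` invertible in the base field (small closure).
-/

set_option autoImplicit false
universe u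
open CategoryTheory CategoryTheory.Limits AlgebraicGeometry MonObj MonoidalCategory CartesianMonoidalCategory

namespace K644.DivPts

variable {K Ω : Type u} [Field K] [Field Ω] [Algebra K Ω]

section Gal

variable {A : Over (Spec (CommRingCat.of K))}

lemma galAct_mul (σ τ : Ω ≃ₐ[K] Ω) (x : SGA7.Pts Ω A) :
    SGA7.galAct (σ * τ) x = SGA7.galAct σ (SGA7.galAct τ x) := by
  rw [SGA7.galAct, SGA7.galAct, SGA7.galAct, ← Category.assoc]
  congr 1
  ext1
  rw [Over.comp_left]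
  change Spec.map _ = Spec.map _ ≫ Spec.map _
  rw [← Spec.map_comp]
  rfl

lemma galAct_one (x : SGA7.Pts Ω A) : SGA7.galAct (1 : Ω ≃ₐ[K] Ω) x = x := by
  have h : SGA7.specAut (1 : Ω ≃ₐ[K] Ω) = 𝟙 _ := by
    ext1
    exact Spec.map_id _
  rw [SGA7.galAct, h, Category.id_comp]

lemma galAct_pmul [GrpObj A] (σ : Ω ≃ₐ[K] Ω) (x y : SGA7.Pts Ω A) :
    SGA7.galAct σ (x * y) = SGA7.galAct σ x * SGA7.galAct σ y := MonObj.comp_mul _ _ _

lemma galAct_pone [GrpObj A] (σ : Ω ≃ₐ[K] Ω) : SGA7.galAct σ (1 : SGA7.Pts Ω A) = 1 := MonObj.comp_one _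

lemma galAct_pow [GrpObj A] (σ : Ω ≃ₐ[K] Ω) (x : SGA7.Pts Ω A) (n : ℕ) :
    SGA7.galAct σ (x ^ n) = SGA7.galAct σ x ^ n := MonObj.comp_pow _ _ _

lemma galAct_inv [GrpObj A] (σ : Ω ≃ₐ[K] Ω) (x : SGA7.Pts Ω A) :
    SGA7.galAct σ x⁻¹ = (SGA7.galAct σ x)⁻¹ := by
  rw [eq_inv_iff_mul_eq_one, ← galAct_pmul, inv_mul_cancel, galAct_pone]

lemma galAct_toUnit (σ : Ω ≃ₐ[K] Ω) (x : 𝟙_ (Over (Spec (CommRingCat.of K))) ⟶ A) :
    SGA7.galAct σ (toUnit (SGA7.pt Ω) ≫ x) = toUnit (SGA7.pt Ω) ≫ x := by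
  rw [SGA7.galAct, ← Category.assoc]
  congr 1
  exact toUnit_unique _ _

variable (Ω) in
lemma toUnit_injective {x y : 𝟙_ (Over (Spec (CommRingCat.of K))) ⟶ A}
    (h : toUnit (SGA7.pt Ω) ≫ x = toUnit (SGA7.pt Ω) ≫ y) : x = y := by
  ext1
  have h1 := congrArg Over.Hom.left h
  rw [Over.comp_left, Over.comp_left] at h1
  have h2 : Epi (toUnit (SGA7.pt (K := K) Ω)).left := by
    change Epi (Spec.map (CommRingCat.ofHom (algebraMap K Ω)))
    exact Flat.epi_of_flat_of_surjective _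
  exact (cancel_epi _).1 h1

end Gal

variable (A : Over (Spec (CommRingCat.of K))) [GrpObj A] [IsProper A.hom] [GeometricallyIntegral A.hom]

lemma etale_pow (n : ℕ) (hn : (n : K) ≠ 0) : Etale (𝟙 A ^ n).left := by
  have het : Etale ((𝟙 A ^ (n : ℤ) : A ⟶ A)).left :=
    Groth.Agent.Grpsch.AbBC.etale_zpow A (d := n) (by simpa using hn)
  rwa [zpow_natCast] at het

/-- `[n]` is surjective for `n` invertible in the field. -/
lemma surjective_pow (n : ℕ) (hn : (n : K) ≠ 0) : Surjective (𝟙 A ^ n).left := by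
  have hint : IsIntegral A.left := GeometricallyIntegral.isIntegral_of_subsingleton A.hom
  have het := etale_pow A n hn
  have hpr : IsProper ((𝟙 A ^ n : A ⟶ A)).left := by
    have e : ((𝟙 A ^ n : A ⟶ A)).left ≫ A.hom = A.hom := Over.w _
    have : IsProper (((𝟙 A ^ n : A ⟶ A)).left ≫ A.hom) := by rw [e]; infer_instance
    exact IsProper.of_comp _ A.hom
  have h1 : IsOpen (Set.range ((𝟙 A ^ n : A ⟶ A)).left) := ((𝟙 A ^ n : A ⟶ A)).left.isOpenMap.isOpen_range
  have h2 : IsClosed (Set.range ((𝟙 A ^ n : A ⟶ A)).left) := ((𝟙 A ^ n : A ⟶ A)).left.isClosedMap.isClosed_range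
  have h3 : Set.range ((𝟙 A ^ n : A ⟶ A)).left = Set.univ :=
    IsClopen.eq_univ ⟨h2, h1⟩ (Set.range_nonempty _)
  exact ⟨Set.range_eq_univ.1 h3⟩

/-- Points with values in a separably closed field are divisible by `n` invertible. -/
theorem exists_pow_eq [IsSepClosed Ω] (n : ℕ) (hn : (n : K) ≠ 0) (x : SGA7.Pts Ω A) :
    ∃ y : SGA7.Pts Ω A, y ^ n = x := by
  have := etale_pow A n hn
  have := surjective_pow A n hn
  obtain ⟨y, hy⟩ := K406.SepPts.exists_lift_of_smooth Ω (𝟙 A ^ n : A ⟶ A).left x.left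
  have hw : y ≫ A.hom = (SGA7.pt (K := K) Ω).hom := by
    rw [← Over.w x, ← hy, Category.assoc, Over.w (𝟙 A ^ n : A ⟶ A)]
  refine ⟨Over.homMk y hw, ?_⟩
  have h1 : (Over.homMk y hw : SGA7.pt (K := K) Ω ⟶ A) ≫ (𝟙 A ^ n : A ⟶ A) = x := by
    ext1
    exact hy
  rwa [MonObj.comp_pow, Category.comp_id] at h1

end K644.DivPts
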