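import Groth.Agent.MultTori.K441.Defs
import Mathlib.RingTheory.UniqueFactorizationDomain.Multiplicity
import Mathlib.RingTheory.UniqueFactorizationDomain.Basic
import Mathlib.GroupTheory.FiniteAbelian.Basic
import Mathlib.RingTheory.Localization.FractionRing

/-!
# Elements of the fraction field of a UFD with valuations divisible by `l` outside a fixed element

`K644.Selmer.exists_classes`: if `R` is a UFD with finitely generated units, the elements of `K = Frac R` whose
valuations at the primes not dividing `r` are divisible by `l` form finitely many classes modulo `l`-th powers.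
-/

set_option autoImplicit false

universe u

namespace K644.Selmer

open Groth.Agent.MultTori.K441

variable {R K : Type u} [CommRing R] [IsDomain R] [UniqueFactorizationMonoid R] [Field K] [Algebra R K]
  [IsFractionRing R K]

omit [IsDomain R] [UniqueFactorizationMonoid R] [IsFractionRing R K] in
lemma mult_mul {p a b : R} [IsDomain R] [UniqueFactorizationMonoid R] (hp : Prime p) (ha : a ≠ 0) (hb : b ≠ 0) :
    multiplicity p (a * b) = multiplicity p a + multiplicity p b :=
  multiplicity_mul hp (FiniteMultiplicity.of_prime_left hp (mul_ne_zero ha hb))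

lemma mult_pow {p a : R} (hp : Prime p) (ha : a ≠ 0) (n : ℕ) :
    multiplicity p (a ^ n) = n * multiplicity p a :=
  FiniteMultiplicity.multiplicity_pow hp (FiniteMultiplicity.of_prime_left hp ha)

omit [IsDomain R] [UniqueFactorizationMonoid R] in
lemma mult_eq_zero {p a : R} (h : ¬ p ∣ a) : multiplicity p a = 0 :=
  multiplicity_eq_zero.2 h

/-- an element of `R` with multiplicities divisible by `l` outside `r` -/
theorem exists_eq (r : R) (l : ℕ) (hl : 0 < l) (w : R) (hw : w ≠ 0)
    (h : ∀ p : R, Prime p → ¬ p ∣ r → l ∣ multiplicity p w) :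
    ∃ (g c : R), g ≠ 0 ∧ c ≠ 0 ∧ w = g * c ^ l ∧
      g ∈ Submonoid.closure ({x : R | IsUnit x} ∪ {x : R | Prime x ∧ x ∣ r}) := by
  induction w using (IsWellFounded.wf : WellFounded (DvdNotUnit : R → R → Prop)).induction with
  | _ w ih =>
  by_cases hu : IsUnit w
  · exact ⟨w, 1, hw, one_ne_zero, by rw [one_pow, mul_one], Submonoid.subset_closure (Or.inl hu)⟩
  · obtain ⟨p, hp, hpw⟩ := WfDvdMonoid.exists_irreducible_factor hu hw
    have hp' : Prime p := UniqueFactorizationMonoid.irreducible_iff_prime.1 hp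
    by_cases hpr : p ∣ r
    · obtain ⟨w', rfl⟩ := hpw
      have hw' : w' ≠ 0 := right_ne_zero_of_mul hw
      have hd : DvdNotUnit w' (p * w') := ⟨hw', p, hp.not_isUnit, mul_comm _ _⟩
      obtain ⟨g, c, hg, hc, e, hmem⟩ := ih w' hd hw' (fun q hq hqr => by
        have h1 := h q hq hqr
        rw [mult_mul hq hp'.ne_zero hw'] at h1
        have h2 : ¬ q ∣ p := fun hqp => hqr ((hq.dvd_prime_iff_associated hp').1 hqp |>.dvd.trans hpr)
        rw [mult_eq_zero h2, zero_add] at h1
        exact h1)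
      exact ⟨p * g, c, mul_ne_zero hp'.ne_zero hg, hc, by rw [e, mul_assoc],
        Submonoid.mul_mem _ (Submonoid.subset_closure (Or.inr ⟨hp', hpr⟩)) hmem⟩
    · have h1 := h p hp' hpr
      have h2 : p ^ l ∣ w := by
        obtain ⟨m, hm⟩ := h1
        have h3 : multiplicity p w ≠ 0 := fun h0 => by
          rw [multiplicity_eq_zero] at h0
          exact h0 hpw
        have h4 : l ≤ multiplicity p w := by
          rw [hm] at h3 ⊢
          exact Nat.le_mul_of_pos_right _ (Nat.pos_of_ne_zero (right_ne_zero_of_mul h3))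
        exact (pow_dvd_pow p h4).trans (pow_multiplicity_dvd p w)
      obtain ⟨w', rfl⟩ := h2
      have hw' : w' ≠ 0 := right_ne_zero_of_mul hw
      have hd : DvdNotUnit w' (p ^ l * w') :=
        ⟨hw', p ^ l, fun hh => hp.not_isUnit ((isUnit_pow_iff hl.ne').1 hh), mul_comm _ _⟩
      obtain ⟨g, c, hg, hc, e, hmem⟩ := ih w' hd hw' (fun q hq hqr => by
        have h1 := h q hq hqr
        rw [mult_mul hq (pow_ne_zero _ hp'.ne_zero) hw', mult_pow hq hp'.ne_zero] at h1
        exact (Nat.dvd_add_right (Dvd.intro _ rfl)).1 h1)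
      exact ⟨g, p * c, hg, mul_ne_zero hp'.ne_zero hc, by rw [e, mul_pow]; ring, hmem⟩

/-- the multiplicities of a numerator of an element with `DvdVal` -/
lemma dvd_of_dvdVal (l : ℕ) {p : R} (hp : Prime p) {b : K} (h : DvdVal l p b) (w y : R) (hw : w ≠ 0)
    (hy : y ≠ 0) (e : b * algebraMap R K y ^ l = algebraMap R K w) : l ∣ multiplicity p w := by
  obtain ⟨n, s, t, hs, ht, e1⟩ := h
  have hp0 : algebraMap R K p ≠ 0 := by
    rw [Ne, FaithfulSMul.algebraMap_eq_zero_iff]
    exact hp.ne_zero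
  have hs0 : s ≠ 0 := fun h0 => hs (h0 ▸ dvd_zero p)
  have ht0 : t ≠ 0 := fun h0 => ht (h0 ▸ dvd_zero p)
  obtain ⟨a, c, hac⟩ : ∃ a c : ℕ, n = a - c := ⟨n.toNat, (-n).toNat, by omega⟩
  have e2 : w * t * p ^ (l * c) = y ^ l * p ^ (l * a) * s := by
    apply FaithfulSMul.algebraMap_injective R K
    rw [map_mul, map_mul, map_mul, map_mul, map_pow, map_pow, map_pow, ← e]
    have e3 : algebraMap R K p ^ ((l : ℤ) * n) * algebraMap R K p ^ (l * c) = algebraMap R K p ^ (l * a) := by
      rw [← zpow_natCast, ← zpow_natCast, ← zpow_add₀ hp0, hac]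
      congr 1
      push_cast
      ring
    calc b * algebraMap R K y ^ l * algebraMap R K t * algebraMap R K p ^ (l * c)
        = (b * algebraMap R K t) * algebraMap R K y ^ l * algebraMap R K p ^ (l * c) := by ring
      _ = algebraMap R K y ^ l * (algebraMap R K p ^ ((l : ℤ) * n) * algebraMap R K p ^ (l * c)) * algebraMap R K s := by
          rw [e1]; ring
      _ = _ := by rw [e3]
  have e3 := congrArg (multiplicity p) e2
  rw [mult_mul hp (mul_ne_zero hw ht0) (pow_ne_zero _ hp.ne_zero), mult_mul hp hw ht0, mult_eq_zero ht, add_zero,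
    mult_mul hp (mul_ne_zero (pow_ne_zero _ hy) (pow_ne_zero _ hp.ne_zero)) hs0, mult_eq_zero hs, add_zero,
    mult_mul hp (pow_ne_zero _ hy) (pow_ne_zero _ hp.ne_zero), mult_pow hp hy, mult_pow hp hp.ne_zero,
    mult_pow hp hp.ne_zero] at e3
  have e4 : l ∣ multiplicity p w + l * c * multiplicity p p := by
    rw [e3]
    exact dvd_add (Dvd.intro _ rfl) (Dvd.intro (a * multiplicity p p) (by ring))
  exact (Nat.dvd_add_left (Dvd.intro (c * multiplicity p p) (by ring))).1 e4

variable (R K) in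
/-- the subgroup of `Kˣ` generated by `Rˣ` and the prime factors of `r` -/
noncomputable def grp (r : R) : Subgroup Kˣ :=
  (Units.map (algebraMap R K : R →* K)).range ⊔
    Subgroup.closure {x : Kˣ | ∃ q ∈ UniqueFactorizationMonoid.factors r, (x : K) = algebraMap R K q}

lemma fg_grp (hfg : Group.FG Rˣ) (r : R) : (grp R K r).FG := by
  refine Subgroup.FG.sup ?_ ?_
  · exact (Group.fg_iff_subgroup_fg _).1 (Group.fg_range _)
  · refine (Subgroup.fg_iff _).2 ⟨_, rfl, ?_⟩
    have h2 : ((algebraMap R K) '' {q | q ∈ UniqueFactorizationMonoid.factors r}).Finite :=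
      (Multiset.finite_toSet _).image _
    refine Set.Finite.of_finite_image (f := Units.val) (h2.subset ?_) Units.val_injective.injOn
    rintro _ ⟨x, ⟨q, hq, e⟩, rfl⟩
    exact ⟨q, hq, e.symm⟩

lemma mem_grp (r : R) (hr : r ≠ 0) (g : R)
    (hg : g ∈ Submonoid.closure ({x : R | IsUnit x} ∪ {x : R | Prime x ∧ x ∣ r})) :
    ∃ u : Kˣ, u ∈ grp R K r ∧ (u : K) = algebraMap R K g := by
  induction hg using Submonoid.closure_induction with
  | mem x hx =>
    rcases hx with hx | ⟨hx, hxr⟩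
    · obtain ⟨v, rfl⟩ := hx
      exact ⟨Units.map (algebraMap R K : R →* K) v, Subgroup.mem_sup_left ⟨v, rfl⟩, rfl⟩
    · obtain ⟨q, hq, ⟨v, hv⟩⟩ := UniqueFactorizationMonoid.exists_mem_factors_of_dvd hr hx.irreducible hxr
      have hq0 : algebraMap R K q ≠ 0 := by
        rw [Ne, FaithfulSMul.algebraMap_eq_zero_iff]
        exact (UniqueFactorizationMonoid.prime_of_factor q hq).ne_zero
      refine ⟨Units.mk0 _ hq0 * Units.map (algebraMap R K : R →* K) v⁻¹, Subgroup.mul_mem _
        (Subgroup.mem_sup_right (Subgroup.subset_closure ⟨q, hq, rfl⟩)) (Subgroup.mem_sup_left ⟨v⁻¹, rfl⟩), ?_⟩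
      rw [Units.val_mul, Units.val_mk0, Units.coe_map, ← hv, map_mul, mul_assoc]
      change _ * (algebraMap R K v * algebraMap R K _) = _
      rw [← map_mul, Units.mul_inv, map_one, mul_one]
  | one => exact ⟨1, Subgroup.one_mem _, by rw [map_one]; rfl⟩
  | mul x y _ _ h1 h2 =>
    obtain ⟨u, hu, e⟩ := h1
    obtain ⟨v, hv, e'⟩ := h2
    exact ⟨u * v, Subgroup.mul_mem _ hu hv, by rw [Units.val_mul, e, e', map_mul]⟩

/-- `b` is a product of an element of the finitely generated group and an `l`-th power -/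
lemma exists_rep (r : R) (hr : r ≠ 0) (l : ℕ) (hl : 0 < l) (b : K) (hb : b ≠ 0)
    (h : ∀ p : R, Prime p → ¬ p ∣ r → DvdVal l p b) : ∃ (g : grp R K r) (z : Kˣ), b = (g : Kˣ) * z ^ l := by
  obtain ⟨x, y, hy, e⟩ := IsFractionRing.div_surjective (A := R) b
  have hy0 : y ≠ 0 := nonZeroDivisors.ne_zero hy
  have hy1 : algebraMap R K y ≠ 0 := by rwa [Ne, FaithfulSMul.algebraMap_eq_zero_iff]
  have hx0 : x ≠ 0 := fun h0 => hb (by rw [← e, h0, map_zero, zero_div])
  have e1 : b * algebraMap R K y ^ l = algebraMap R K (x * y ^ (l - 1)) := by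
    rw [← e, map_mul, map_pow]
    obtain ⟨m, rfl⟩ : ∃ m, l = m + 1 := ⟨l - 1, by omega⟩
    rw [Nat.add_sub_cancel, pow_succ]
    field_simp
  have hw : x * y ^ (l - 1) ≠ 0 := mul_ne_zero hx0 (pow_ne_zero _ hy0)
  obtain ⟨g, c, hg, hc, e2, hmem⟩ := exists_eq r l hl _ hw fun p hp hpr =>
    dvd_of_dvdVal l hp (h p hp hpr) _ _ hw hy0 e1
  obtain ⟨u, hu, e3⟩ := mem_grp (K := K) r hr g hmem
  have hc1 : algebraMap R K c ≠ 0 := by rwa [Ne, FaithfulSMul.algebraMap_eq_zero_iff]
  refine ⟨⟨u, hu⟩, Units.mk0 _ hc1 / Units.mk0 _ hy1, ?_⟩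
  rw [Units.val_div_eq_div_val, Units.val_mk0, Units.val_mk0, e3, div_pow,
    ← mul_div_assoc, eq_div_iff (pow_ne_zero _ hy1), e1, e2, map_mul, map_pow]

lemma exists_quot (r : R) (l : ℕ) (b b' : K) (g g' v : grp R K r) (z z' : Kˣ) (hz : b = (g : Kˣ) * z ^ l)
    (hz' : b' = (g' : Kˣ) * z' ^ l) (hv : v ^ l = g⁻¹ * g') : ∃ z : K, z ≠ 0 ∧ b = b' * z ^ l := by
  refine ⟨((v : Kˣ) : K)⁻¹ * z / z', ?_, ?_⟩
  · exact div_ne_zero (mul_ne_zero (inv_ne_zero (Units.ne_zero _)) (Units.ne_zero _)) (Units.ne_zero _)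
  · have hv1 : ((v : Kˣ) : K) ^ l = (((g : Kˣ) : K))⁻¹ * ((g' : Kˣ) : K) := by
      have := congrArg (fun x : grp R K r => ((x : Kˣ) : K)) hv
      simpa using this
    rw [div_pow, mul_pow, inv_pow, hv1, hz, hz']
    have := Units.ne_zero (g : Kˣ)
    have := Units.ne_zero (g' : Kˣ)
    have := Units.ne_zero z'
    field_simp

/-- Finitely many classes modulo `l`-th powers of elements with valuations divisible by `l` outside `r`. -/
theorem exists_classes (hfg : Group.FG Rˣ) (r : R) (hr : r ≠ 0) (l : ℕ) (hl : 0 < l) :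
    ∃ (F : Type u) (_ : Finite F) (c : K → F), ∀ b b' : K, b ≠ 0 → b' ≠ 0 →
      (∀ p : R, Prime p → ¬ p ∣ r → DvdVal l p b) → (∀ p : R, Prime p → ¬ p ∣ r → DvdVal l p b') →
      c b = c b' → ∃ z : K, z ≠ 0 ∧ b = b' * z ^ l := by
  classical
  have hF1 : Group.FG (grp R K r) := (Group.fg_iff_subgroup_fg _).2 (fg_grp hfg r)
  let N : Subgroup (grp R K r) := (powMonoidHom l : grp R K r →* grp R K r).range
  have hF : Finite (grp R K r ⧸ N) := by
    have h1 : Group.FG (grp R K r ⧸ N) := QuotientGroup.fg N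
    exact CommGroup.finite_of_fg_isMulTorsion _ (CommGroup.isMulTorsion_quotient_range_powMonoidHom _ hl.ne')
  refine ⟨grp R K r ⧸ N, hF, fun b => if hh : ∃ (g : grp R K r) (z : Kˣ), b = (g : Kˣ) * z ^ l then
    QuotientGroup.mk hh.choose else 1, ?_⟩
  intro b b' hb hb' h h' e
  have H := exists_rep r hr l hl b hb h
  have H' := exists_rep r hr l hl b' hb' h'
  simp only [dif_pos H, dif_pos H'] at e
  obtain ⟨z, hz⟩ := H.choose_spec
  obtain ⟨z', hz'⟩ := H'.choose_spec
  obtain ⟨v, hv⟩ := QuotientGroup.eq.1 e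
  exact exists_quot r l b b' H.choose H'.choose v z z' hz hz' hv

end K644.Selmer
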