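import Groth.Agent.MultTori.K644.Descent
import Groth.Agent.MultTori.K644.DivPts
import Groth.Agent.MultTori.K644.Selmer
import Mathlib.FieldTheory.SeparableClosure

/-!
# The weak Mordell-Weil theorem from the theorem of Chevalley-Weil

`K644.WeakMW.weakMW`: node RQ-C2 of the plan of helper441 (`Groth/Agent/MultTori/K441/Plan.lean`).
-/

set_option autoImplicit false

universe u v

open CategoryTheory CategoryTheory.Limits AlgebraicGeometry MonObj MonoidalCategory
  CartesianMonoidalCategory TensorProduct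

namespace K644.WeakMW

open Groth.Agent.MultTori.K441 Groth.Agent.Sga7.H753.BaseExt

section

variable (K Ω : Type u) [Field K] [Field Ω] [Algebra K Ω] [IsGalois K Ω] [IsSepClosed Ω]
  (A : Over (Spec (CommRingCat.of K))) [GrpObj A] [IsCommMonObj A] [IsProper A.hom] [GeometricallyIntegral A.hom]

/-- the data of the abstract descent for an abelian variety -/
noncomputable def dat (l : ℕ) (hlK : (l : K) ≠ 0) :
    K644.Descent.Dat K Ω l (SGA7.Pts Ω A) (𝟙_ (Over (Spec (CommRingCat.of K))) ⟶ A) where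
  act σ := { toFun := SGA7.galAct σ, map_one' := DivPts.galAct_pone σ, map_mul' := DivPts.galAct_pmul σ }
  act_mul := DivPts.galAct_mul
  inc :=
    { toFun := fun x => toUnit (SGA7.pt Ω) ≫ x
      map_one' := MonObj.comp_one _
      map_mul' := fun _ _ => MonObj.comp_mul _ _ _ }
  inj := fun _ _ h => DivPts.toUnit_injective Ω h
  fix := DivPts.galAct_toUnit
  exists_of_fix := fun y hy => Groth.Agent.Sga7.H729.Dict.exists_of_fixed A y hy
  div := fun x => DivPts.exists_pow_eq A l hlK _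
  fin := K520.TateFin.finite_tors Ω A hlK
  level := fun y => Groth.Agent.Sga7.H730.StabOpen.exists_finite A y

omit [IsSepClosed Ω] [IsCommMonObj A] [IsProper A.hom] [GeometricallyIntegral A.hom] in
lemma exists_bc_point (E : IntermediateField K Ω) (x : 𝟙_ (Over (Spec (CommRingCat.of K))) ⟶ A) :
    ∃ x' : 𝟙_ (Over (Spec (CommRingCat.of E))) ⟶ Red.bc (fKL K E) A,
      toUnit (SGA7.pt (K := E) Ω) ≫ x' = (ptsEquiv K E Ω A).symm (toUnit (SGA7.pt (K := K) Ω) ≫ x) := by
  refine Groth.Agent.Sga7.H729.Dict.exists_of_fixed _ _ fun σ => ?_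
  apply (ptsEquiv K E Ω A).injective
  rw [ptsEquiv_galAct, MulEquiv.apply_symm_apply, DivPts.galAct_toUnit]

end

/-- **Weak Mordell-Weil** from Chevalley-Weil. -/
theorem weakMW (K : Type u) [Field K]
    (hg : ∀ (K' : Type u) [Field K'] [Algebra K K'] [FiniteDimensional K K'], Good K' ∧ ChevWeil K')
    (A : Over (Spec (CommRingCat.of K))) [GrpObj A]
    [IsCommMonObj A] [IsProper A.hom] [GeometricallyIntegral A.hom] (l : ℕ) (hl : l.Prime) (hlK : (l : K) ≠ 0) :
    Finite ((𝟙_ (Over (Spec (CommRingCat.of K))) ⟶ A) ⧸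
      (powMonoidHom l : (𝟙_ (Over (Spec (CommRingCat.of K))) ⟶ A) →* _).range) := by
  let Ω := SeparableClosure K
  refine K644.Descent.finite_quot (Ω := Ω) (dat K Ω A l hlK) hl hlK ?_
  intro E hfd
  obtain ⟨⟨R, _, _, _, hft, hfr, hufd, hfgu⟩, hCW⟩ := hg E
  have hlE : (l : E) ≠ 0 := by
    rw [← map_natCast (algebraMap K E), Ne, map_eq_zero]
    exact hlK
  have h1 : IsProper (Red.bc (fKL K E) A).hom := by dsimp; infer_instance
  have h2 : GeometricallyIntegral (Red.bc (fKL K E) A).hom := by dsimp; infer_instance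
  have h3 : IsCommMonObj (Red.bc (fKL K E) A) := inferInstance
  have hsep : IsSepClosure E Ω := ⟨inferInstance, inferInstance⟩
  obtain ⟨r, hr, H⟩ := hCW (Red.bc (fKL K E) A) l hl hlE R hft
  obtain ⟨F, hF, c, hc⟩ := K644.Selmer.exists_classes (R := R) (K := E) hfgu r hr l hl.pos
  refine ⟨{b | b ≠ 0 ∧ ∀ p : R, Prime p → ¬ p ∣ r → DvdVal l p b}, F, hF, c, ?_, ?_⟩
  · intro b hb b' hb' e
    exact hc b b' hb.1 hb'.1 hb.2 hb'.2 e
  · intro x y hy β b hb hβ h
    refine ⟨hb, fun p hp hpr => ?_⟩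
    obtain ⟨x', hx'⟩ := exists_bc_point K Ω A E x
    refine H Ω p hp hpr x' ((ptsEquiv K E Ω A).symm y) ?_ β b hb hβ fun σ hσ => ?_
    · rw [← map_pow, hx']
      exact congrArg _ hy
    · have h4 := congrArg (ptsEquiv K E Ω A) hσ
      rw [ptsEquiv_galAct, MulEquiv.apply_symm_apply] at h4
      exact h (σ.restrictScalars K) (K644.Descent.Dat.restrict_mem E σ) h4

end K644.WeakMW
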