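import Groth.Agent.MultTori.K644.Kummer
import Mathlib.GroupTheory.FiniteAbelian.Duality
import Mathlib.GroupTheory.QuotientGroup.Basic

/-!
# Abstract form of the weak Mordell-Weil theorem

`K644.Descent.finite_quot`: `P` an `l`-divisible abelian group with an action of `Gal(Ω/K)` of finite level on every
element and finite `l`-torsion, `X` the invariants.  If for every finite `E/K` in `Ω` the radicands attached to the
`l`-division points lie in finitely many classes modulo `l`-th powers, then `X / X ^ l` is finite.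
-/

set_option autoImplicit false

universe u v w

namespace K644.Descent

variable {K Ω : Type u} [Field K] [Field Ω] [Algebra K Ω]

/-- Data: `P` with the action of the Galois group, `X` its invariants. -/
structure Dat (K Ω : Type u) [Field K] [Field Ω] [Algebra K Ω] (l : ℕ) (P : Type v) [CommGroup P] (X : Type w)
    [CommGroup X] where
  act : (Ω ≃ₐ[K] Ω) → P →* P
  act_mul : ∀ σ τ y, act (σ * τ) y = act σ (act τ y)
  inc : X →* P
  inj : Function.Injective inc
  fix : ∀ σ x, act σ (inc x) = inc x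
  exists_of_fix : ∀ y, (∀ σ, act σ y = y) → ∃ x, inc x = y
  div : ∀ x : X, ∃ z : P, z ^ l = inc x
  fin : {y : P | y ^ l = 1}.Finite
  level : ∀ y : P, ∃ E : IntermediateField K Ω, FiniteDimensional K E ∧ ∀ σ ∈ E.fixingSubgroup, act σ y = y

namespace Dat

variable {l : ℕ} {P : Type v} [CommGroup P] {X : Type w} [CommGroup X] (D : Dat K Ω l P X)

/-- a division point -/
noncomputable def y (x : X) : P := (D.div x).choose

lemma y_pow (x : X) : D.y x ^ l = D.inc x := (D.div x).choose_spec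

variable (P l) in
/-- the `l`-torsion -/
abbrev T : Subgroup P := (powMonoidHom l : P →* P).ker

/-- the cocycle of the division point -/
noncomputable def c (x : X) (σ : Ω ≃ₐ[K] Ω) : T l P :=
  ⟨D.act σ (D.y x) * (D.y x)⁻¹, by
    rw [MonoidHom.mem_ker, powMonoidHom_apply, mul_pow, inv_pow, ← map_pow, D.y_pow, D.fix, mul_inv_cancel]⟩

lemma c_coe (x : X) (σ : Ω ≃ₐ[K] Ω) : (D.c x σ : P) = D.act σ (D.y x) * (D.y x)⁻¹ := rfl

lemma c_mul (x : X) (σ τ : Ω ≃ₐ[K] Ω) : (D.c x (σ * τ) : P) = D.act σ (D.c x τ) * D.c x σ := by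
  rw [c_coe, c_coe, c_coe, D.act_mul, map_mul, map_inv]
  group

include D in
lemma finite_T : Finite (T l P) := by
  refine Set.finite_coe_iff.2 (D.fin.subset fun y hy => ?_)
  exact hy

variable [IsGalois K Ω] [IsSepClosed Ω]

include D in
/-- a finite extension over which the torsion is rational, containing the roots of unity -/
theorem exists_field (hlK : (l : K) ≠ 0) : ∃ E : IntermediateField K Ω, FiniteDimensional K E ∧
    (∀ σ ∈ E.fixingSubgroup, ∀ t : T l P, D.act σ t = t) ∧ ∃ ζ : E, IsPrimitiveRoot ζ l := by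
  have := D.finite_T
  choose e he1 he2 using fun t : T l P => D.level t
  have hlΩ : (l : Ω) ≠ 0 := by
    rw [← map_natCast (algebraMap K Ω), Ne, map_eq_zero]
    exact hlK
  obtain ⟨ζ, hζ⟩ := K644.Kummer.exists_primitiveRoot (Ω := Ω) l hlΩ
  have h1 : FiniteDimensional K (IntermediateField.adjoin K {ζ}) :=
    IntermediateField.adjoin.finiteDimensional (Algebra.IsIntegral.isIntegral ζ)
  let E : IntermediateField K Ω := (⨆ t, e t) ⊔ IntermediateField.adjoin K {ζ}
  have hfd : FiniteDimensional K E := inferInstance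
  refine ⟨E, hfd, ?_, ?_⟩
  · intro σ hσ t
    refine he2 t σ ?_
    exact IntermediateField.fixingSubgroup_antitone ((le_iSup e t).trans le_sup_left) hσ
  · refine ⟨⟨ζ, le_sup_right (a := ⨆ t, e t) (IntermediateField.mem_adjoin_simple_self K ζ)⟩, ?_⟩
    exact IsPrimitiveRoot.of_map_of_injective (f := algebraMap E Ω) hζ (algebraMap E Ω).injective

omit [IsGalois K Ω] [IsSepClosed Ω] in
/-- over `E` the cocycle is a homomorphism -/
lemma c_mul' {E : IntermediateField K Ω} (hE : ∀ σ ∈ E.fixingSubgroup, ∀ t : T l P, D.act σ t = t) (x : X)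
    (σ τ : Ω ≃ₐ[K] Ω) (hσ : σ ∈ E.fixingSubgroup) : D.c x (σ * τ) = D.c x σ * D.c x τ := by
  apply Subtype.ext
  rw [c_mul, hE σ hσ, Subgroup.coe_mul, mul_comm]

omit [IsGalois K Ω] [IsSepClosed Ω] in
/-- restriction of scalars of automorphisms lands in the fixing subgroup -/
lemma restrict_mem (E : IntermediateField K Ω) (τ : Ω ≃ₐ[E] Ω) : τ.restrictScalars K ∈ E.fixingSubgroup := by
  rw [IntermediateField.mem_fixingSubgroup_iff]
  intro a ha
  exact τ.commutes ⟨a, ha⟩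

omit [IsGalois K Ω] [IsSepClosed Ω] in
lemma exists_restrict (E : IntermediateField K Ω) (σ : Ω ≃ₐ[K] Ω) (hσ : σ ∈ E.fixingSubgroup) :
    ∃ τ : Ω ≃ₐ[E] Ω, τ.restrictScalars K = σ := by
  rw [IntermediateField.mem_fixingSubgroup_iff] at hσ
  refine ⟨AlgEquiv.ofRingEquiv (f := σ.toRingEquiv) fun a => hσ _ a.2, ?_⟩
  ext a
  rfl

omit [IsSepClosed Ω] in
/-- the Kummer radical attached to a character of the torsion -/
theorem exists_radical {E : IntermediateField K Ω} [FiniteDimensional K E]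
    (hE : ∀ σ ∈ E.fixingSubgroup, ∀ t : T l P, D.act σ t = t) (x : X) (ψ : T l P →* Eˣ) :
    ∃ (β : Ω) (b : E), β ≠ 0 ∧ b ≠ 0 ∧ β ^ l = algebraMap E Ω b ∧
      ∀ σ ∈ E.fixingSubgroup, σ β = algebraMap E Ω (ψ (D.c x σ)) * β := by
  obtain ⟨E1, _, hE1⟩ := D.level (D.y x)
  have hgal : IsGalois E Ω := inferInstance
  let E2 : IntermediateField E Ω := IntermediateField.extendScalars (F := E) (E := E ⊔ E1) le_sup_left
  have hfd : FiniteDimensional E E2 := by
    have h1 : FiniteDimensional K (E ⊔ E1 : IntermediateField K Ω) := inferInstance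
    have h2 : FiniteDimensional K E2 := h1
    exact FiniteDimensional.right K E E2
  obtain ⟨β, hβ0, hβ⟩ := K644.Kummer.exists_eigen (K := E) (Ω := Ω)
    (fun τ => ψ (D.c x (τ.restrictScalars K))) (fun σ τ => by
      rw [← map_mul]
      congr 1
      change D.c x (σ.restrictScalars K * τ.restrictScalars K) = _
      exact D.c_mul' hE x _ _ (restrict_mem E σ)) E2 (fun τ hτ => by
      have h1 : τ.restrictScalars K ∈ E1.fixingSubgroup := by
        rw [IntermediateField.mem_fixingSubgroup_iff]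
        rw [IntermediateField.mem_fixingSubgroup_iff] at hτ
        intro a ha
        exact hτ a (le_sup_right (a := E) ha)
      have h2 : D.c x (τ.restrictScalars K) = 1 := by
        apply Subtype.ext
        rw [c_coe, hE1 _ h1, mul_inv_cancel, Subgroup.coe_one]
      change ψ (D.c x (τ.restrictScalars K)) = 1
      rw [h2, map_one])
  have hfix : ∀ τ : Ω ≃ₐ[E] Ω, τ (β ^ l) = β ^ l := by
    intro τ
    rw [map_pow, hβ, mul_pow, ← map_pow, ← Units.val_pow_eq_pow_val, ← map_pow]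
    have h1 : D.c x (τ.restrictScalars K) ^ l = 1 := by
      apply Subtype.ext
      exact (D.c x (τ.restrictScalars K)).2
    rw [h1, map_one, Units.val_one, map_one, one_mul]
  obtain ⟨b, hb⟩ := (InfiniteGalois.mem_range_algebraMap_iff_fixed (β ^ l)).2 hfix
  refine ⟨β, b, hβ0, ?_, hb.symm, ?_⟩
  · rintro rfl
    rw [map_zero] at hb
    exact pow_ne_zero _ hβ0 hb.symm
  · intro σ hσ
    obtain ⟨τ, rfl⟩ := exists_restrict E σ hσ
    exact hβ τ

end Dat

open Dat

variable [IsGalois K Ω] [IsSepClosed Ω]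

omit [IsGalois K Ω] [IsSepClosed Ω] in
/-- Two elements whose radicands agree modulo `l`-th powers have the same characters. -/
lemma eq_of_radicals {l : ℕ} (hl : 0 < l) {E : IntermediateField K Ω} {ζ : E} (hζ : IsPrimitiveRoot ζ l)
    {β β' : Ω} {b b' z : E} (hβ : β ≠ 0) (hβ' : β' ≠ 0) (e : β ^ l = algebraMap E Ω b)
    (e' : β' ^ l = algebraMap E Ω b') (hz : z ≠ 0) (h : b = b' * z ^ l) {σ : Ω ≃ₐ[K] Ω} (hσ : σ ∈ E.fixingSubgroup)
    {u u' : E} (hu : σ β = algebraMap E Ω u * β) (hu' : σ β' = algebraMap E Ω u' * β') : u = u' := by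
  have hzΩ : algebraMap E Ω z ≠ 0 := by rwa [Ne, map_eq_zero]
  have h1 : (β / (β' * algebraMap E Ω z)) ^ l = 1 := by
    rw [div_pow, mul_pow, e, e', h, map_mul, map_pow, div_self]
    refine mul_ne_zero ?_ (pow_ne_zero _ hzΩ)
    rw [← e']
    exact pow_ne_zero _ hβ'
  have hζ' : IsPrimitiveRoot (algebraMap E Ω ζ) l := hζ.map_of_injective (algebraMap E Ω).injective
  have : NeZero l := ⟨hl.ne'⟩
  obtain ⟨i, -, hi⟩ := hζ'.eq_pow_of_pow_eq_one h1
  have h2 : β = algebraMap E Ω (ζ ^ i * z) * β' := by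
    rw [map_mul, map_pow, hi]
    field_simp
  have h3 : σ (algebraMap E Ω (ζ ^ i * z)) = algebraMap E Ω (ζ ^ i * z) := by
    rw [IntermediateField.mem_fixingSubgroup_iff] at hσ
    exact hσ _ (ζ ^ i * z).2
  have h4 : σ β = algebraMap E Ω u' * β := by
    conv_lhs => rw [h2, map_mul, h3, hu']
    rw [h2]
    ring
  rw [hu] at h4
  exact (algebraMap E Ω).injective (mul_right_cancel₀ hβ h4)

/-- The abstract weak Mordell-Weil theorem. -/
theorem finite_quot {l : ℕ} {P : Type v} [CommGroup P] {X : Type w} [CommGroup X] (D : Dat K Ω l P X)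
    (hl : l.Prime) (hlK : (l : K) ≠ 0)
    (hS : ∀ (E : IntermediateField K Ω) [FiniteDimensional K E], ∃ (S : Set E) (F : Type u) (_ : Finite F)
      (c : E → F), (∀ b ∈ S, ∀ b' ∈ S, c b = c b' → ∃ z : E, z ≠ 0 ∧ b = b' * z ^ l) ∧
      ∀ (x : X) (y : P), y ^ l = D.inc x → ∀ (β : Ω) (b : E), b ≠ 0 → β ^ l = algebraMap E Ω b →
        (∀ σ ∈ E.fixingSubgroup, D.act σ y = y → σ β = β) → b ∈ S) :
    Finite (X ⧸ (powMonoidHom l : X →* X).range) := by
  classical
  have hT := D.finite_T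
  obtain ⟨E, hfd, hE, ζ, hζ⟩ := D.exists_field hlK
  obtain ⟨S, F, hF, c, hc, hmem⟩ := hS E
  choose β b hβ0 hb0 hβb hβ using fun (x : X) (ψ : T l P →* Eˣ) => D.exists_radical hE x ψ
  have hbS : ∀ x ψ, b x ψ ∈ S := by
    intro x ψ
    refine hmem x (D.y x) (D.y_pow x) (β x ψ) (b x ψ) (hb0 x ψ) (hβb x ψ) fun σ hσ hy => ?_
    have h1 : D.c x σ = 1 := by
      apply Subtype.ext
      rw [D.c_coe, hy, mul_inv_cancel, Subgroup.coe_one]
    rw [hβ x ψ σ hσ, h1, map_one, Units.val_one, map_one, one_mul]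
  -- enough characters
  have : NeZero l := ⟨hl.ne_zero⟩
  have henough : HasEnoughRootsOfUnity E l := ⟨⟨ζ, hζ⟩, rootsOfUnity.isCyclic E l⟩
  have hexp : Monoid.exponent (T l P) ∣ l := Monoid.exponent_dvd_of_forall_pow_eq_one fun t => Subtype.ext t.2
  have henough' : HasEnoughRootsOfUnity E (Monoid.exponent (T l P)) := HasEnoughRootsOfUnity.of_dvd E hexp
  have hfinhom : Finite (T l P →* Eˣ) := by
    obtain ⟨e⟩ := CommGroup.monoidHom_mulEquiv_of_hasEnoughRootsOfUnity (T l P) E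
    exact Finite.of_equiv _ e.symm.toEquiv
  -- representatives of the embeddings
  let rep : (E →ₐ[K] Ω) → (Ω ≃ₐ[K] Ω) := fun φ =>
    if h : ∃ σ : Ω ≃ₐ[K] Ω, (σ : Ω →ₐ[K] Ω).comp E.val = φ then h.choose else 1
  have hrep : ∀ σ : Ω ≃ₐ[K] Ω, (rep ((σ : Ω →ₐ[K] Ω).comp E.val))⁻¹ * σ ∈ E.fixingSubgroup := by
    intro σ
    have h : ∃ σ' : Ω ≃ₐ[K] Ω, (σ' : Ω →ₐ[K] Ω).comp E.val = (σ : Ω →ₐ[K] Ω).comp E.val := ⟨σ, rfl⟩
    have h1 : ((rep ((σ : Ω →ₐ[K] Ω).comp E.val) : Ω ≃ₐ[K] Ω) : Ω →ₐ[K] Ω).comp E.val =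
        (σ : Ω →ₐ[K] Ω).comp E.val := by
      simp only [rep, dif_pos h]
      exact h.choose_spec
    rw [IntermediateField.mem_fixingSubgroup_iff]
    intro a ha
    have h2 : rep ((σ : Ω →ₐ[K] Ω).comp E.val) a = σ a := DFunLike.congr_fun h1 ⟨a, ha⟩
    rw [AlgEquiv.mul_apply, ← h2]
    exact (rep ((σ : Ω →ₐ[K] Ω).comp E.val)).symm_apply_apply a
  let Φ : X → ((T l P →* Eˣ) → F) × ((E →ₐ[K] Ω) → T l P) := fun x =>
    (fun ψ => c (b x ψ), fun φ => D.c x (rep φ))
  have key : ∀ x x' : X, Φ x = Φ x' → ∃ x0 : X, x0 ^ l = x * x'⁻¹ := by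
    intro x x' h
    have hN : ∀ σ ∈ E.fixingSubgroup, D.c x σ = D.c x' σ := by
      intro σ hσ
      by_contra hne
      have hne' : D.c x σ / D.c x' σ ≠ 1 := fun h0 => hne (div_eq_one.1 h0)
      obtain ⟨ψ, hψ⟩ := CommGroup.exists_apply_ne_one_of_hasEnoughRootsOfUnity (T l P) E hne'
      apply hψ
      have h1 : c (b x ψ) = c (b x' ψ) := congrFun (congrArg Prod.fst h) ψ
      obtain ⟨z, hz, hbz⟩ := hc _ (hbS x ψ) _ (hbS x' ψ) h1
      have h2 := eq_of_radicals hl.pos hζ (hβ0 x ψ) (hβ0 x' ψ) (hβb x ψ) (hβb x' ψ) hz hbz hσ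
        (hβ x ψ σ hσ) (hβ x' ψ σ hσ)
      rw [map_div, Units.ext h2, div_self']
    have hall : ∀ σ, D.c x σ = D.c x' σ := by
      intro σ
      obtain ⟨ρ, n, rfl, hn, hρ⟩ : ∃ ρ n : Ω ≃ₐ[K] Ω, σ = ρ * n ∧ n ∈ E.fixingSubgroup ∧ D.c x ρ = D.c x' ρ :=
        ⟨_, _, (mul_inv_cancel_left (rep ((σ : Ω →ₐ[K] Ω).comp E.val)) σ).symm, hrep σ,
          congrFun (congrArg Prod.snd h) _⟩
      apply Subtype.ext
      rw [D.c_mul, D.c_mul, hρ, hN _ hn]
    have hfix : ∀ σ, D.act σ (D.y x * (D.y x')⁻¹) = D.y x * (D.y x')⁻¹ := by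
      intro σ
      have h1 := congrArg Subtype.val (hall σ)
      rw [D.c_coe, D.c_coe, mul_inv_eq_iff_eq_mul] at h1
      rw [map_mul, map_inv, h1, mul_assoc (D.act σ (D.y x')), mul_comm (D.act σ (D.y x')), mul_inv_cancel_right,
        mul_comm]
    obtain ⟨x0, hx0⟩ := D.exists_of_fix _ hfix
    refine ⟨x0, D.inj ?_⟩
    rw [map_pow, hx0, mul_pow, inv_pow, D.y_pow, D.y_pow, map_mul, map_inv]
  refine Finite.of_injective (fun q : X ⧸ (powMonoidHom l : X →* X).range => Φ (Quotient.out q)) ?_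
  intro q q' h
  obtain ⟨x0, hx0⟩ := key _ _ h
  rw [← QuotientGroup.out_eq' q, ← QuotientGroup.out_eq' q']
  refine Eq.symm (QuotientGroup.eq.2 ⟨x0, ?_⟩)
  rw [powMonoidHom_apply, hx0, mul_comm]

end K644.Descent
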