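import Mathlib.RepresentationTheory.Homological.GroupCohomology.Hilbert90
import Mathlib.FieldTheory.Galois.Infinite
import Mathlib.FieldTheory.IsSepClosed
import Mathlib.RingTheory.RootsOfUnity.EnoughRootsOfUnity
import Mathlib.RingTheory.RootsOfUnity.AlgebraicallyClosed

/-!
# Kummer theory for characters of finite level

`K644.Kummer.exists_eigen`: a homomorphism `ω : Gal(Ω/K) → Kˣ`, trivial on the automorphisms fixing a finite
subextension, is `σ ↦ σ β / β` for some `β` in `Ω`.
-/

set_option autoImplicit false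

universe u

namespace K644.Kummer

variable {K Ω : Type u} [Field K] [Field Ω] [Algebra K Ω]

/-- Hilbert 90 for homomorphisms of finite level with values in the base field. -/
theorem exists_eigen [IsGalois K Ω] (ω : (Ω ≃ₐ[K] Ω) → Kˣ) (hω : ∀ σ τ, ω (σ * τ) = ω σ * ω τ)
    (E : IntermediateField K Ω) [FiniteDimensional K E] (hE : ∀ σ ∈ E.fixingSubgroup, ω σ = 1) :
    ∃ β : Ω, β ≠ 0 ∧ ∀ σ : Ω ≃ₐ[K] Ω, σ β = algebraMap K Ω (ω σ) * β := by
  let L : IntermediateField K Ω := IntermediateField.normalClosure K E Ω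
  have hEL : E ≤ L := IntermediateField.le_normalClosure E
  have hfin : FiniteDimensional K L := inferInstance
  have hnor : Normal K L := inferInstance
  have hsurj : Function.Surjective (AlgEquiv.restrictNormalHom L : (Ω ≃ₐ[K] Ω) →* (L ≃ₐ[K] L)) :=
    AlgEquiv.restrictNormalHom_surjective Ω
  let s : (L ≃ₐ[K] L) → (Ω ≃ₐ[K] Ω) := Function.surjInv hsurj
  have hs : ∀ g, AlgEquiv.restrictNormalHom L (s g) = g := Function.surjInv_eq hsurj
  let f : (L ≃ₐ[K] L) → Lˣ := fun g => Units.map (algebraMap K L : K →* L) (ω (s g))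
  have hr : ∀ σ : Ω ≃ₐ[K] Ω, ω (s (AlgEquiv.restrictNormalHom L σ)) = ω σ := by
    intro σ
    have h1 : (s (AlgEquiv.restrictNormalHom L σ))⁻¹ * σ ∈ E.fixingSubgroup := by
      have h2 : (s (AlgEquiv.restrictNormalHom L σ))⁻¹ * σ ∈
          (AlgEquiv.restrictNormalHom L : (Ω ≃ₐ[K] Ω) →* (L ≃ₐ[K] L)).ker := by
        rw [MonoidHom.mem_ker, map_mul, map_inv, hs, inv_mul_cancel]
      rw [IntermediateField.restrictNormalHom_ker] at h2
      exact IntermediateField.fixingSubgroup_antitone hEL h2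
    have h3 : σ = s (AlgEquiv.restrictNormalHom L σ) * ((s (AlgEquiv.restrictNormalHom L σ))⁻¹ * σ) := by
      rw [mul_inv_cancel_left]
    conv_rhs => rw [h3, hω, hE _ h1, mul_one]
  have hf : groupCohomology.IsMulCocycle₁ f := by
    intro g h
    have h1 : ω (s (g * h)) = ω (s g) * ω (s h) := by
      rw [← hω, ← hr (s g * s h), map_mul, hs, hs]
    have h2 : g • f h = f h := by
      ext
      rw [AlgEquiv.smul_units_def]
      simp [f]
    rw [h2]
    ext
    simp [f, h1, mul_comm]
  obtain ⟨β, hβ⟩ := groupCohomology.isMulCoboundary₁_of_isMulCocycle₁_of_aut_to_units f hf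
  refine ⟨((β : L) : Ω), ?_, fun σ => ?_⟩
  · exact_mod_cast Units.ne_zero β
  · have h1 := hβ (AlgEquiv.restrictNormalHom L σ)
    rw [div_eq_iff_eq_mul, AlgEquiv.smul_units_def] at h1
    have h2 := congrArg (fun x : Lˣ => ((x : L) : Ω)) h1
    simp only [Units.coe_map, Units.val_mul, f, hr] at h2
    have h3 : (((AlgEquiv.restrictNormalHom L σ) (β : L) : L) : Ω) = σ ((β : L) : Ω) :=
      AlgEquiv.restrictNormal_commutes σ L (β : L)
    rw [← h3]
    exact h2

/-- A separably closed field has enough roots of unity of order invertible in it. -/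
lemma exists_primitiveRoot [IsSepClosed Ω] (l : ℕ) (hl : (l : Ω) ≠ 0) : ∃ ζ : Ω, IsPrimitiveRoot ζ l := by
  have : NeZero (l : Ω) := ⟨hl⟩
  have := IsSepClosed.hasEnoughRootsOfUnity Ω l
  exact HasEnoughRootsOfUnity.exists_primitiveRoot Ω l

end K644.Kummer
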